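import Cfsg.Agent.HalfNorm.Main
import Cfsg.Agent.S3612
import Cfsg.Agent.S0989
import Cfsg.Agent.PermGroups.Basic

/-!
# Prime degree `q + 2` with half normaliser: triple transitivity

The two orbits of a two-point stabiliser would have coprime sizes, and the fibres of the larger suborbit would be a
block of the primitive point stabiliser.
-/

set_option autoImplicit false
set_option linter.unusedSectionVars false

namespace Cfsg.Agent.HalfNorm.TwinPrime

open MulAction

variable {p : ℕ} [hp : Fact p.Prime] {G Ω : Type*} [Group G] [Finite G] [MulAction G Ω] [FaithfulSMul G Ω]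
  [Finite Ω] [IsPretransitive G Ω]
  (hΩ : Nat.card Ω = p) (hins : ¬ Group.IsSolvable G) (P : Sylow p G)
  (hN : 2 * Nat.card ↥(Subgroup.normalizer ((P : Subgroup G) : Set G)) = p * (p - 1))

include hΩ hins in
theorem two {a b c d : Ω} (hab : a ≠ b) (hcd : c ≠ d) : ∃ g : G, g • a = c ∧ g • b = d := by
  classical
  have := Fintype.ofFinite Ω
  let G' := (MulAction.toPermHom G Ω).range
  let ι : G ≃* G' := MonoidHom.ofInjective MulAction.toPerm_injective
  have : IsPretransitive G' Ω := ⟨fun a b => (exists_smul_eq G a b).elim fun g hg => ⟨ι g, hg⟩⟩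
  have h2' : IsMultiplyPretransitive G' Ω 2 :=
    (Cfsg.Agent.S0675.result (by rw [← Nat.card_eq_fintype_card, hΩ]; exact hp.out) G').resolve_left
      fun h => hins (Group.isSolvable_of_isSolvable_injective (f := ι.toMonoidHom) ι.injective)
  obtain ⟨g, hg⟩ := (is_two_pretransitive_iff.1 h2') hab hcd
  obtain ⟨g, rfl⟩ := ι.surjective g
  exact ⟨g, hg⟩

include hΩ hN in
theorem range_ne_top : (toPermHom G Ω).range ≠ ⊤ := by
  classical
  intro htop
  have := Fintype.ofFinite Ω
  let e : G ≃* Equiv.Perm Ω := MulEquiv.ofBijective (toPermHom G Ω)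
    ⟨MulAction.toPerm_injective, MonoidHom.range_eq_top.1 htop⟩
  let P' : Sylow p (Equiv.Perm Ω) := P.mapSurjective (f := e.toMonoidHom) e.surjective
  have h := Cfsg.Agent.S0989.result p (Or.inl (by rw [← Nat.card_eq_fintype_card, hΩ])) P'
  rw [show (P' : Subgroup (Equiv.Perm Ω)) = (P : Subgroup G).map e.toMonoidHom from rfl,
    ← Subgroup.map_equiv_normalizer_eq, Subgroup.card_map_of_injective (f := e.toMonoidHom) e.injective] at h
  rw [h] at hN
  have : 0 < p * (p - 1) := Nat.mul_pos hp.out.pos (by have := hp.out.two_le; omega)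
  omega

include hΩ hins hN in
/-- An element fixing all points outside a pair fixes everything. -/
theorem no_swap {x y : Ω} (g : G) (hg : ∀ z, z ≠ x → z ≠ y → g • z = z) : g = 1 := by
  classical
  have := Fintype.ofFinite Ω
  refine MulAction.toPerm_injective (α := G) (β := Ω) ?_
  by_contra hne
  have hne' : (toPermHom G Ω g) ≠ 1 := fun h => hne (h.trans (map_one (toPermHom G Ω)).symm)
  have hsub : (toPermHom G Ω g).support ⊆ {x, y} := by
    intro z hz
    rw [Equiv.Perm.mem_support] at hz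
    by_contra hzn
    simp only [Finset.mem_insert, Finset.mem_singleton, not_or] at hzn
    exact hz (hg z hzn.1 hzn.2)
  have hc2 : (toPermHom G Ω g).support.card = 2 :=
    le_antisymm ((Finset.card_le_card hsub).trans Finset.card_le_two) (Equiv.Perm.two_le_card_support_of_ne_one hne')
  have hswap := Equiv.Perm.card_support_eq_two.1 hc2
  refine range_ne_top hΩ P hN ?_
  refine Equiv.Perm.subgroup_eq_top_of_swap_mem (by rw [← Nat.card_eq_fintype_card, hΩ]; exact hp.out) ?_
    ⟨g, rfl⟩ hswap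
  rw [← Nat.card_eq_fintype_card, ← Nat.card_eq_fintype_card, hΩ]
  have hι : Nat.card G = Nat.card (toPermHom G Ω).range :=
    Nat.card_congr (MonoidHom.ofInjective (f := toPermHom G Ω) MulAction.toPerm_injective).toEquiv
  rw [← hι, ← hΩ]
  obtain ⟨a⟩ : Nonempty Ω := Nat.card_ne_zero.1 (by rw [hΩ]; exact hp.out.pos.ne') |>.1
  rw [← index_stabilizer_of_transitive G a]
  exact Subgroup.index_dvd_card _

variable {q : ℕ}

include hΩ hins P hN in
theorem three_aux (hq : q.Prime) (hpq : p = q + 2) (hp7 : 7 < p) {x y z w : Ω} (hxy : x ≠ y) (hzx : z ≠ x)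
    (hzy : z ≠ y) (hwx : w ≠ x) (hwy : w ≠ y) (hzw : w ∉ orbit ↥(stabilizer G x ⊓ stabilizer G y) z)
    (hcover : ∀ t, t ≠ x → t ≠ y → t ∈ orbit ↥(stabilizer G x ⊓ stabilizer G y) z ∨
      t ∈ orbit ↥(stabilizer G x ⊓ stabilizer G y) w)
    (hlt : (orbit ↥(stabilizer G x ⊓ stabilizer G y) z).ncard < (orbit ↥(stabilizer G x ⊓ stabilizer G y) w).ncard) :
    False := by
  classical
  set S := stabilizer G x ⊓ stabilizer G y with hS
  set A := orbit S z with hA
  set B := orbit S w with hB
  have hdisj : Disjoint A B := Set.disjoint_left.2 fun t h1 h2 => hzw (by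
    rw [hA, ← orbit_eq_iff.2 h1, orbit_eq_iff.2 h2]; exact mem_orbit_self _)
  have hout : ∀ {u t : Ω}, u ≠ x → u ≠ y → t ∈ orbit S u → t ≠ x ∧ t ≠ y := by
    rintro u _ hux huy ⟨s, rfl⟩
    exact ⟨fun e => hux (smul_left_cancel (s : G) (e.trans s.2.1.symm)),
      fun e => huy (smul_left_cancel (s : G) (e.trans s.2.2.symm))⟩
  have hsum : A.ncard + B.ncard = q := by
    have hAB : A ∪ B = ({x, y} : Set Ω)ᶜ := by
      ext t
      simp only [Set.mem_union, Set.mem_compl_iff, Set.mem_insert_iff, Set.mem_singleton_iff, not_or]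
      refine ⟨?_, fun h => hcover t h.1 h.2⟩
      rintro (h | h)
      exacts [hout hzx hzy h, hout hwx hwy h]
    rw [← Set.ncard_union_eq hdisj, hAB, Set.ncard_compl, Set.ncard_pair hxy, hΩ]
    omega
  have hapos : 0 < A.ncard := (Set.ncard_pos).2 ⟨z, mem_orbit_self z⟩
  have hcop : Nat.Coprime B.ncard A.ncard := by
    refine Nat.Coprime.symm (Nat.coprime_self_add_right.1 ?_)
    rw [hsum]
    exact ((hq.coprime_iff_not_dvd).2 fun h => by
      have := Nat.le_of_dvd hapos h; omega).symm
  -- the stabiliser of a point of `A` is transitive on `B`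
  have htrB : ∀ z' ∈ A, ∀ v ∈ B, ∃ s : G, s ∈ S ∧ s • z' = z' ∧ s • w = v := by
    intro z' hz' v hv
    set U := stabilizer S z' with hU
    have h1 := Subgroup.card_mul_index U
    rw [hU, index_stabilizer, orbit_eq_iff.2 hz', ← hA, ← hU] at h1
    have h2 := Subgroup.card_mul_index (stabilizer S w)
    rw [index_stabilizer, ← hB] at h2
    have h3 := Subgroup.card_mul_index (stabilizer U w)
    rw [index_stabilizer] at h3
    have h4 : (stabilizer U w).map U.subtype ≤ stabilizer S w := by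
      rintro _ ⟨u, hu, rfl⟩
      exact hu
    obtain ⟨k, hk⟩ := Subgroup.card_dvd_of_le h4
    rw [Subgroup.card_map_of_injective U.subtype_injective] at hk
    have hsub : orbit U w ⊆ B := by
      rintro _ ⟨u, rfl⟩
      exact ⟨(u : S), rfl⟩
    have hdvd : B.ncard ∣ (orbit U w).ncard * A.ncard := by
      refine ⟨k, Nat.eq_of_mul_eq_mul_left (Nat.card_pos (α := stabilizer U w)) ?_⟩
      rw [← mul_assoc, h3, h1, ← h2, hk]
      ring
    have hle : B.ncard ≤ (orbit U w).ncard :=
      Nat.le_of_dvd ((Set.ncard_pos).2 ⟨w, mem_orbit_self w⟩) (hcop.dvd_of_dvd_mul_right hdvd)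
    rw [← Set.eq_of_subset_of_ncard_le hsub hle] at hv
    obtain ⟨u, hu⟩ := hv
    exact ⟨((u : S) : G), (u : S).2, u.2, hu⟩
  -- the suborbit of size `|B|` at each point other than `x`
  let Bs : Ω → Set Ω := fun u => {v | ∃ g : G, g • x = x ∧ g • y = u ∧ g • w = v}
  have hBs : ∀ g : G, g • x = x → Bs (g • y) = (fun t => g • t) '' B := by
    intro g hg
    ext v
    constructor
    · rintro ⟨g', h1, h2, rfl⟩
      have hmem : g⁻¹ * g' ∈ S := ⟨show (g⁻¹ * g') • x = x by rw [mul_smul, h1, inv_smul_eq_iff, hg],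
        show (g⁻¹ * g') • y = y by rw [mul_smul, h2, inv_smul_smul]⟩
      exact ⟨(g⁻¹ * g') • w, ⟨⟨_, hmem⟩, rfl⟩, by simp [mul_smul]⟩
    · rintro ⟨_, ⟨s, rfl⟩, rfl⟩
      exact ⟨g * s, by rw [mul_smul, show (s : G) • x = x from s.2.1, hg],
        by rw [mul_smul, show (s : G) • y = y from s.2.2], mul_smul _ _ _⟩
  have hBy : Bs y = B := by simpa using hBs 1 (one_smul G x)
  have hmove : ∀ h : G, h • x = x → ∀ u v, h • v ∈ Bs (h • u) ↔ v ∈ Bs u := by
    intro h hh u v
    constructor
    · rintro ⟨g, h1, h2, h3⟩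
      exact ⟨h⁻¹ * g, by rw [mul_smul, h1, inv_smul_eq_iff, hh], by rw [mul_smul, h2, inv_smul_smul],
        by rw [mul_smul, h3, inv_smul_smul]⟩
    · rintro ⟨g, h1, h2, h3⟩
      exact ⟨h * g, by rw [mul_smul, h1, hh], by rw [mul_smul, h2], by rw [mul_smul, h3]⟩
  have hsmul : ∀ h : G, h • x = x → ∀ u, Bs (h • u) = (fun t => h • t) '' Bs u := by
    intro h hh u
    ext v
    rw [Set.mem_image]
    constructor
    · intro hv
      exact ⟨h⁻¹ • v, (hmove h hh u _).1 (by rwa [smul_inv_smul]), smul_inv_smul _ _⟩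
    · rintro ⟨t, ht, rfl⟩
      exact (hmove h hh u t).2 ht
  have hBz : Bs z = B := by
    obtain ⟨g, hgx, hgy⟩ := two hΩ hins hxy hzx.symm
    have himg : Bs z = (fun t => g • t) '' B := by rw [← hgy]; exact hBs g hgx
    have hcard : (Bs z).ncard = B.ncard := by rw [himg, Set.ncard_image_of_injective _ (MulAction.injective g)]
    have hall : ∀ v ∈ B, ∀ v' ∈ B, v ∈ Bs z → v' ∈ Bs z := by
      intro v hv v' hv' hvz
      obtain ⟨s, hs, hsz, hsv⟩ := htrB z (mem_orbit_self z) v hv
      obtain ⟨t, ht, htz, htv⟩ := htrB z (mem_orbit_self z) v' hv'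
      have h1 : (t * s⁻¹) • x = x := (mul_mem ht (inv_mem hs)).1
      have h2 := (hmove _ h1 z v).2 hvz
      rwa [mul_smul, mul_smul, show s⁻¹ • z = z by rw [inv_smul_eq_iff, hsz], htz,
        show s⁻¹ • v = w by rw [inv_smul_eq_iff, hsv], htv] at h2
    by_cases hex : ∃ v ∈ B, v ∈ Bs z
    · obtain ⟨v, hv, hvz⟩ := hex
      exact (Set.eq_of_subset_of_ncard_le (fun v' hv' => hall v hv v' hv' hvz) hcard.le).symm
    exfalso
    push Not at hex
    refine absurd (Set.ncard_le_ncard_of_injOn (s := B) (t := A) (fun v => g⁻¹ • v) (fun v hv => ?_)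
      (MulAction.injective g⁻¹).injOn) (not_le.2 hlt)
    obtain ⟨hvx, hvy⟩ := hout hwx hwy hv
    refine (hcover (g⁻¹ • v) (fun e => hvx ?_) (fun e => ?_)).resolve_right fun h => hex v hv ?_
    · rw [← smul_inv_smul g v, e, hgx]
    · have : v = z := by rw [← smul_inv_smul g v, e, hgy]
      exact Set.disjoint_left.1 hdisj (mem_orbit_self z) (this ▸ hv)
    · rw [himg]
      exact ⟨g⁻¹ • v, h, smul_inv_smul g v⟩
  have hprim := Cfsg.Agent.S3612.result p hp.out hΩ inferInstance hins P hN hp7 x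
  let mk : ∀ t : Ω, t ≠ x → SubMulAction.ofStabilizer G x := fun t ht =>
    ⟨t, (SubMulAction.mem_ofStabilizer_iff G x).2 ht⟩
  let D : Set (SubMulAction.ofStabilizer G x) := {u | Bs (u : Ω) = B}
  have hD : IsBlock (stabilizer G x) D := by
    refine isBlock_iff_smul_eq_of_nonempty.2 ?_
    rintro g ⟨_, ⟨u, hu, rfl⟩, hgu⟩
    have hgB : (fun t => (g : G) • t) '' B = B := by
      have h1 := hsmul (g : G) g.2 (u : Ω)
      rw [show Bs (u : Ω) = B from hu] at h1
      exact h1.symm.trans hgu
    ext v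
    constructor
    · rintro ⟨v, hv, rfl⟩
      show Bs ((g : G) • (v : Ω)) = B
      rw [hsmul (g : G) g.2, show Bs (v : Ω) = B from hv, hgB]
    · intro hv
      refine ⟨g⁻¹ • v, ?_, smul_inv_smul g v⟩
      have h1 := hsmul (g : G) g.2 (((g⁻¹ • v : SubMulAction.ofStabilizer G x)) : Ω)
      rw [show (g : G) • ((g⁻¹ • v : SubMulAction.ofStabilizer G x) : Ω) = (v : Ω) from
        congrArg Subtype.val (smul_inv_smul g v), show Bs (v : Ω) = B from hv] at h1
      exact ((MulAction.injective (g : G)).image_injective (hgB.trans h1)).symm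
  rcases hprim.isTrivialBlock_of_isBlock hD with h | h
  · exact hzy (congrArg Subtype.val (h (show mk z hzx ∈ D from hBz) (show mk y hxy.symm ∈ D from hBy)))
  · have hw : mk w hwx ∈ D := by rw [h]; trivial
    have hwB : w ∈ Bs w := by
      rw [show Bs w = B from hw]; exact mem_orbit_self w
    obtain ⟨g, -, h1, h2⟩ := hwB
    exact hwy (smul_left_cancel g (h1.trans h2.symm)).symm

include hΩ hins P hN in
theorem three (hq : q.Prime) (hpq : p = q + 2) (hp7 : 7 < p) {x y z w : Ω} (hxy : x ≠ y) (hzx : z ≠ x) (hzy : z ≠ y)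
    (hwx : w ≠ x) (hwy : w ≠ y) : w ∈ orbit ↥(stabilizer G x ⊓ stabilizer G y) z := by
  classical
  set S := stabilizer G x ⊓ stabilizer G y with hS
  by_contra hzw
  have hcover : ∀ t, t ≠ x → t ≠ y → t ∈ orbit S z ∨ t ∈ orbit S w := by
    intro t htx hty
    by_contra hc
    push Not at hc
    refine no_three_orbits hΩ hins P hN hxy ![z, w, t] ?_ ?_ ?_
    · intro i; fin_cases i
      exacts [hzx, hwx, htx]
    · intro i; fin_cases i
      exacts [hzy, hwy, hty]
    · intro i j hij
      fin_cases i <;> fin_cases j <;> first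
        | rfl
        | exact (hzw hij).elim
        | exact (hzw (mem_orbit_symm.1 hij)).elim
        | exact (hc.1 hij).elim
        | exact (hc.1 (mem_orbit_symm.1 hij)).elim
        | exact (hc.2 hij).elim
        | exact (hc.2 (mem_orbit_symm.1 hij)).elim
  rcases lt_trichotomy (orbit S z).ncard (orbit S w).ncard with h | h | h
  · exact three_aux hΩ hins P hN hq hpq hp7 hxy hzx hzy hwx hwy hzw hcover h
  · have hdisj : Disjoint (orbit S z) (orbit S w) := Set.disjoint_left.2 fun t h1 h2 => hzw (by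
      rw [← orbit_eq_iff.2 h1, orbit_eq_iff.2 h2]; exact mem_orbit_self _)
    have hAB : orbit S z ∪ orbit S w = ({x, y} : Set Ω)ᶜ := by
      ext t
      simp only [Set.mem_union, Set.mem_compl_iff, Set.mem_insert_iff, Set.mem_singleton_iff, not_or]
      refine ⟨?_, fun h => hcover t h.1 h.2⟩
      rintro (⟨s, rfl⟩ | ⟨s, rfl⟩)
      · exact ⟨fun e => hzx (smul_left_cancel (s : G) (e.trans s.2.1.symm)),
          fun e => hzy (smul_left_cancel (s : G) (e.trans s.2.2.symm))⟩
      · exact ⟨fun e => hwx (smul_left_cancel (s : G) (e.trans s.2.1.symm)),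
          fun e => hwy (smul_left_cancel (s : G) (e.trans s.2.2.symm))⟩
    have hsum := Set.ncard_union_eq hdisj
    rw [hAB, Set.ncard_compl, Set.ncard_pair hxy, hΩ, h] at hsum
    rcases hq.eq_two_or_odd with h2 | h2 <;> omega
  · exact three_aux hΩ hins P hN hq hpq hp7 hxy hwx hwy hzx hzy (fun h' => hzw (mem_orbit_symm.1 h'))
      (fun t h1 h2 => (hcover t h1 h2).symm) h

end Cfsg.Agent.HalfNorm.TwinPrime
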