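import Mathlib
import Cfsg.Agent.Fg24.PrimeTwoP.Basic

/-!
# Soluble transitive groups of prime degree: the point stabiliser
-/

set_option autoImplicit false

namespace Cfsg.Agent.HalfNorm.TwinPrime

open MulAction

theorem sq_not_dvd_perm {α : Type*} [Fintype α] [DecidableEq α] {q : ℕ} [hq : Fact q.Prime]
    (hα : Fintype.card α = q) (G : Subgroup (Equiv.Perm α)) : ¬ q * q ∣ Nat.card G := by
  intro h
  have h1 := h.trans (Subgroup.card_subgroup_dvd_card G)
  rw [Nat.card_perm, Nat.card_eq_fintype_card, hα, ← Nat.mul_factorial_pred hq.out.ne_zero,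
    Nat.mul_dvd_mul_iff_left hq.out.pos, hq.out.dvd_factorial] at h1
  have := hq.out.pos
  omega

theorem card_sylow_prime {α : Type*} [Fintype α] [DecidableEq α] {q : ℕ} [hq : Fact q.Prime]
    (hα : Fintype.card α = q) (G : Subgroup (Equiv.Perm α)) [IsPretransitive G α] (Q : Sylow q G) :
    Nat.card (Q : Subgroup G) = q := by
  obtain ⟨a⟩ : Nonempty α := Fintype.card_pos_iff.1 (hα ▸ hq.out.pos)
  have hd : q ∣ Nat.card G := by
    rw [← hα, ← Nat.card_eq_fintype_card, ← index_stabilizer_of_transitive G a]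
    exact Subgroup.index_dvd_card _
  obtain ⟨k, hk⟩ := IsPGroup.iff_card.1 Q.isPGroup'
  have h1 := Q.dvd_card_of_dvd_card hd
  rw [hk] at h1
  have hk1 : k ≠ 0 := by
    rintro rfl
    rw [pow_zero, Nat.dvd_one] at h1
    exact hq.out.ne_one h1
  have hk2 : k < 2 := by
    by_contra h
    apply sq_not_dvd_perm hα G
    rw [← pow_two]
    exact (pow_dvd_pow q (show 2 ≤ k by omega)).trans (hk ▸ Subgroup.card_subgroup_dvd_card _)
  rw [hk, show k = 1 by omega, pow_one]

/-- Galois: in a soluble transitive group of prime degree `q` a point stabiliser has order dividing `q - 1`. -/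
theorem stab_dvd_of_solvable {α : Type*} [Fintype α] [DecidableEq α] {q : ℕ} [hq : Fact q.Prime]
    (hα : Fintype.card α = q) (G : Subgroup (Equiv.Perm α)) [IsPretransitive G α] (hsol : Group.IsSolvable G)
    (z : α) : Nat.card (stabilizer G z) ∣ q - 1 := by
  obtain ⟨Q⟩ : Nonempty (Sylow q G) := inferInstance
  have hQ := card_sylow_prime hα G Q
  have hn := Cfsg.Agent.Fg24.PrimeTwoP.normal_of_solvable hα hsol Q hQ
  have : IsPreprimitive G α := IsPreprimitive.of_prime_card (by
    rw [Nat.card_eq_fintype_card, hα]; exact hq.out)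
  have hQt : IsPretransitive (Q : Subgroup G) α := by
    refine IsQuasiPreprimitive.isPretransitive_of_normal fun h => ?_
    have hbot : (Q : Subgroup G) = ⊥ := by
      rw [Subgroup.eq_bot_iff_forall]
      intro k hk
      refine Subtype.ext (Equiv.ext fun b => ?_)
      exact (Set.eq_univ_iff_forall.mp h b) ⟨k, hk⟩
    rw [hbot, Subgroup.card_bot] at hQ
    exact hq.out.ne_one hQ.symm
  let f : stabilizer G z →* MulAut (Q : Subgroup G) := MulAut.conjNormal.comp (stabilizer G z).subtype
  have hf : Function.Injective f := by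
    rw [injective_iff_map_eq_one]
    intro k hk
    refine Subtype.ext (Subtype.ext (Equiv.ext fun b => ?_))
    obtain ⟨l, rfl⟩ := exists_smul_eq (Q : Subgroup G) z b
    have h1 : ((f k l : (Q : Subgroup G)) : G) = (l : G) := by rw [hk]; rfl
    rw [show ((f k l : (Q : Subgroup G)) : G) = (k : G) * l * (k : G)⁻¹ from MulAut.conjNormal_apply _ _] at h1
    show (k : G) • (l : G) • z = (l : G) • z
    rw [smul_smul, show (k : G) * l = l * k from mul_inv_eq_iff_eq_mul.1 h1, mul_smul, show (k : G) • z = z from k.2]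
  have : IsCyclic (Q : Subgroup G) := isCyclic_of_prime_card hQ
  have h := Subgroup.card_dvd_of_injective f hf
  rwa [IsCyclic.card_mulAut, hQ, Nat.totient_prime hq.out] at h

end Cfsg.Agent.HalfNorm.TwinPrime
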