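import Cfsg.Agent.HalfNorm.TwinPrime.Base
import Cfsg.Agent.HalfNorm.TwinPrime.Solv
import Cfsg.Agent.HalfNorm.Odd
import Cfsg.Agent.S0676

/-!
# Prime degree `q + 2` with half normaliser: five-fold transitivity
-/

set_option autoImplicit false
set_option linter.unusedSectionVars false

namespace Cfsg.Agent.HalfNorm.TwinPrime

open MulAction
open scoped Pointwise

variable {p : ℕ} [hp : Fact p.Prime] {G Ω : Type*} [Group G] [Finite G] [MulAction G Ω] [FaithfulSMul G Ω]
  [Finite Ω] [IsPretransitive G Ω]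
  (hΩ : Nat.card Ω = p) (hins : ¬ Group.IsSolvable G) (P : Sylow p G)
  (hN : 2 * Nat.card ↥(Subgroup.normalizer ((P : Subgroup G) : Set G)) = p * (p - 1))

include hΩ hins in
theorem card_eq {x y : Ω} (hxy : x ≠ y) :
    Nat.card G = p * (p - 1) * Nat.card ↥(stabilizer G x ⊓ stabilizer G y) := by
  classical
  have h0 := Subgroup.card_mul_index (stabilizer G (x, y))
  rw [index_stabilizer] at h0
  have hst : stabilizer G (x, y) = stabilizer G x ⊓ stabilizer G y := by
    ext g
    simp [mem_stabilizer_iff, Prod.ext_iff]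
  have horb : orbit G (x, y) = (Set.univ : Set Ω).offDiag := by
    ext ⟨a, b⟩
    simp only [Set.mem_offDiag, Set.mem_univ, true_and]
    constructor
    · rintro ⟨g, hg⟩
      obtain ⟨h1, h2⟩ := Prod.ext_iff.1 hg
      rintro rfl
      exact hxy (smul_left_cancel g (h1.trans h2.symm))
    · intro hab
      obtain ⟨g, h1, h2⟩ := two hΩ hins hxy hab
      exact ⟨g, Prod.ext h1 h2⟩
  have : Fintype Ω := Fintype.ofFinite Ω
  have hc : ((Set.univ : Set Ω).offDiag).ncard = p * (p - 1) := by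
    rw [show ((Set.univ : Set Ω).offDiag) = ↑((Finset.univ : Finset Ω).offDiag) by simp, Set.ncard_coe_finset,
      Finset.offDiag_card, Finset.card_univ, ← Nat.card_eq_fintype_card, hΩ, Nat.mul_sub, mul_one]
  rw [horb, hc, hst] at h0
  rw [← h0]; ring

variable {q : ℕ} [hq : Fact q.Prime] {x y : Ω}

/-- The other points. -/
def others (G : Type*) [Group G] [MulAction G Ω] (x y : Ω) :
    SubMulAction (stabilizer G ({x, y} : Set Ω)) Ω where
  carrier := {z | z ∉ ({x, y} : Set Ω)}
  smul_mem' := fun g z hz hgz => hz (by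
    have h : (g : G) • z ∈ ({x, y} : Set Ω) := hgz
    have e : (g : G) • ({x, y} : Set Ω) = {x, y} := g.2
    exact Set.smul_mem_smul_set_iff.1 (e.symm.subset h))

theorem mem_others {z : Ω} : z ∈ others G x y ↔ z ≠ x ∧ z ≠ y := by
  show ¬ (z ∈ ({x, y} : Set Ω)) ↔ _
  simp

theorem mem_pair_iff {g : G} :
    g ∈ stabilizer G ({x, y} : Set Ω) ↔ g • x = x ∧ g • y = y ∨ g • x = y ∧ g • y = x := by
  rw [mem_stabilizer_iff, Set.smul_set_insert, Set.smul_set_singleton, Set.pair_eq_pair_iff]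

/-- The stabiliser of both points, inside the stabiliser of the pair. -/
def both (G : Type*) [Group G] [MulAction G Ω] (x y : Ω) : Subgroup (stabilizer G ({x, y} : Set Ω)) :=
  (stabilizer G x ⊓ stabilizer G y).subgroupOf _

include hΩ hins in
theorem both_index (hxy : x ≠ y) : (both G x y).index = 2 := by
  classical
  have hst : both G x y = stabilizer (stabilizer G ({x, y} : Set Ω)) x := by
    ext g
    constructor
    · exact fun h => h.1
    · intro h
      have h' : (g : G) • x = x := h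
      rcases mem_pair_iff.1 g.2 with ⟨_, h2⟩ | ⟨h1, h2⟩
      · exact ⟨h', h2⟩
      · exact absurd (h'.symm.trans h1) hxy
  rw [hst, index_stabilizer]
  have horb : orbit (stabilizer G ({x, y} : Set Ω)) x = {x, y} := by
    ext z
    constructor
    · rintro ⟨g, rfl⟩
      rcases mem_pair_iff.1 g.2 with ⟨h1, _⟩ | ⟨h1, _⟩
      · exact Or.inl h1
      · exact Or.inr h1
    · rintro (rfl | rfl)
      · exact mem_orbit_self _
      · obtain ⟨g, h1, h2⟩ := two hΩ hins hxy hxy.symm
        exact ⟨⟨g, mem_pair_iff.2 (Or.inr ⟨h1, h2⟩)⟩, h1⟩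
  rw [horb, Set.ncard_pair hxy]

theorem solvable_of_index_two {T : Type*} [Group T] {H : Subgroup T} (hidx : H.index = 2)
    (h1 : Group.IsSolvable H) : Group.IsSolvable T := by
  have hn : H.Normal := Subgroup.normal_of_index_eq_two hidx
  have : Fact (Nat.Prime 2) := ⟨Nat.prime_two⟩
  have hc : IsCyclic (T ⧸ H) := isCyclic_of_prime_card (p := 2) hidx
  have h2 : Group.IsSolvable (T ⧸ H) := Group.isSolvable_of_comm fun a b => by
    have := hc.isMulCommutative
    exact mul_comm' a b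
  exact (Group.isSolvable_iff_subgroup_quotient H).2 ⟨h1, h2⟩

set_option maxHeartbeats 1000000 in
include hΩ hins P hN in
theorem facts (hpq : p = q + 2) (hq5 : 5 < q) (hxy : x ≠ y) :
    (∀ {a b c d e f : Ω}, a ∈ others G x y → b ∈ others G x y → c ∈ others G x y →
      d ∈ others G x y → e ∈ others G x y → f ∈ others G x y →
      a ≠ b → a ≠ c → b ≠ c → d ≠ e → d ≠ f → e ≠ f →
      ∃ g : G, g • x = x ∧ g • y = y ∧ g • a = d ∧ g • b = e ∧ g • c = f) := by
  classical
  set T := stabilizer G ({x, y} : Set Ω) with hTdef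
  set Y := others G x y with hY
  have hp7 : 7 < p := by omega
  have hthree : ∀ a b : Y, ∃ g : T, g ∈ both G x y ∧ g • a = b := by
    intro a b
    obtain ⟨g, hg⟩ := three hΩ hins P hN hq.out hpq hp7 hxy (mem_others.1 a.2).1 (mem_others.1 a.2).2
      (mem_others.1 b.2).1 (mem_others.1 b.2).2
    exact ⟨⟨g, mem_pair_iff.2 (Or.inl ⟨g.2.1, g.2.2⟩)⟩, g.2, Subtype.ext hg⟩
  have hY_card : Nat.card Y = q := by
    have e : Y ≃ ↥(({x, y} : Set Ω)ᶜ) := Equiv.subtypeEquivRight fun z => Iff.rfl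
    rw [Nat.card_congr e, Nat.card_coe_set_eq, Set.ncard_compl, Set.ncard_pair hxy, hΩ]
    omega
  have hfaith : FaithfulSMul T Y := ⟨fun {g h} he => by
    have h1 : (h : G)⁻¹ * g = 1 := no_swap hΩ hins P hN (x := x) (y := y) _ fun z hzx hzy => by
      have := congrArg Subtype.val (he ⟨z, mem_others.2 ⟨hzx, hzy⟩⟩)
      rw [mul_smul]
      exact inv_smul_eq_iff.2 this
    exact Subtype.ext (inv_mul_eq_one.1 h1).symm⟩
  have : Fintype Y := Fintype.ofFinite _
  have hYf : Fintype.card Y = q := by rw [← Nat.card_eq_fintype_card, hY_card]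
  have hYp : (Fintype.card Y).Prime := hYf ▸ hq.out
  set φ := toPermHom T Y with hφ
  let ι : T ≃* φ.range := MonoidHom.ofInjective MulAction.toPerm_injective
  have : IsPretransitive φ.range Y := ⟨fun a b => by
    obtain ⟨g, -, hg⟩ := hthree a b
    exact ⟨ι g, hg⟩⟩
  have hidx := both_index hΩ hins (G := G) hxy
  have hnorm : (both G x y).Normal := Subgroup.normal_of_index_eq_two hidx
  -- the pair stabiliser is insoluble
  have hTins : ¬ Group.IsSolvable φ.range := by
    intro hsol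
    obtain ⟨z⟩ : Nonempty Y := Fintype.card_pos_iff.1 (hYf ▸ hq.out.pos)
    have hd := stab_dvd_of_solvable hYf φ.range hsol z
    have hm := Subgroup.card_mul_index (stabilizer φ.range z)
    rw [index_stabilizer_of_transitive, hY_card, ← Nat.card_congr ι.toEquiv] at hm
    have hS := Subgroup.card_mul_index (both G x y)
    rw [hidx, ← hm] at hS
    have hSc : Nat.card (both G x y) = Nat.card ↥(stabilizer G x ⊓ stabilizer G y) :=
      Nat.card_congr (Subgroup.subgroupOfEquivOfLe (H := stabilizer G x ⊓ stabilizer G y)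
        fun g hg => mem_pair_iff.2 (Or.inl ⟨hg.1, hg.2⟩)).toEquiv
    have hG := card_eq hΩ hins (G := G) hxy
    rw [← hSc] at hG
    set m := Nat.card (stabilizer φ.range z) with hmdef
    have hmpos : 0 < m := Nat.card_pos
    obtain ⟨d, hd'⟩ : 2 ∣ m := by
      have h2 : 2 ∣ m * q := ⟨Nat.card (both G x y), by rw [← hS]; ring⟩
      refine (Nat.Coprime.dvd_of_dvd_mul_right ?_ h2)
      exact (Nat.coprime_primes Nat.prime_two hq.out).2 (by omega)
    have hSd : Nat.card (both G x y) = d * q := by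
      rw [hd'] at hS
      nlinarith
    -- number of Sylow subgroups
    have hn := Subgroup.card_mul_index (Subgroup.normalizer ((P : Subgroup G) : Set G))
    rw [show (Subgroup.normalizer ((P : Subgroup G) : Set G)).index = Nat.card (Sylow p G) from
      P.card_eq_index_normalizer.symm, hG, hSd] at hn
    have hn2 : Nat.card (Sylow p G) = 2 * d * q := by
      refine Nat.eq_of_mul_eq_mul_left (show 0 < p * (p - 1) from Nat.mul_pos hp.out.pos (by omega)) ?_
      calc p * (p - 1) * Nat.card (Sylow p G)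
          = 2 * (Nat.card ↥(Subgroup.normalizer ((P : Subgroup G) : Set G)) * Nat.card (Sylow p G)) := by
            rw [← hN]; ring
        _ = p * (p - 1) * (2 * d * q) := by rw [hn]; ring
    have hmod := card_sylow_modEq_one p G
    rw [hn2] at hmod
    have h4 : p ∣ 4 * d + 1 := by
      have h5 : 2 * d * p = 2 * d * q + 4 * d := by rw [hpq]; ring
      have h6 : 4 * d + 1 ≡ 2 * d * p [MOD p] := by
        rw [h5, add_comm (2 * d * q)]
        exact Nat.ModEq.add_left _ hmod.symm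
      exact Nat.modEq_zero_iff_dvd.1 (h6.trans (Nat.modEq_zero_iff_dvd.2 (Dvd.intro_left _ rfl)))
    have hdq : 2 * d ≤ q - 1 := hd' ▸ Nat.le_of_dvd (by omega) hd
    have hdpos : 0 < d := by
      rcases Nat.eq_zero_or_pos d with h | h
      · subst h; omega
      · exact h
    have heq : 4 * d + 1 = p := by
      obtain ⟨c, hc⟩ := h4
      rcases c with _ | _ | c
      · omega
      · omega
      · have : p * 2 ≤ p * (c + 1 + 1) := Nat.mul_le_mul_left _ (by omega)
        omega
    have h2dvd : 2 * d ∣ 2 := by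
      rw [hd'] at hd
      have h7 : 2 * d ∣ 4 * d := ⟨2, by ring⟩
      have h8 := Nat.dvd_sub h7 hd
      rwa [show 4 * d - (q - 1) = 2 by omega] at h8
    have := Nat.le_of_dvd two_pos h2dvd
    omega
  -- a Sylow `q`-normaliser of even order
  have h3T : IsMultiplyPretransitive φ.range Y 3 := by
    obtain ⟨Q⟩ : Nonempty (Sylow q T) := inferInstance
    let Q' : Sylow q φ.range := Q.mapSurjective (f := ι.toMonoidHom) ι.surjective
    refine Cfsg.Agent.S0676.result hYf φ.range hTins Q' ?_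
    rw [show (Q' : Subgroup φ.range) = (Q : Subgroup T).map ι.toMonoidHom from rfl,
      ← Subgroup.map_equiv_normalizer_eq, Subgroup.card_map_of_injective (f := ι.toMonoidHom) ι.injective]
    have hQle : (Q : Subgroup T) ≤ both G x y := by
      intro g hg
      obtain ⟨k, hk⟩ := Q.isPGroup' ⟨g, hg⟩
      have hk' : g ^ q ^ k = 1 := congrArg Subtype.val hk
      obtain ⟨j, hj⟩ : Odd (q ^ k) := (hq.out.odd_of_ne_two (by omega)).pow
      rw [hj, pow_succ, pow_mul] at hk'
      have h2 : (g ^ 2) ^ j ∈ both G x y := pow_mem (Subgroup.sq_mem_of_index_two hidx g) j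
      exact ((both G x y).mul_mem_cancel_left h2).1 (by rw [hk']; exact one_mem _)
    have hF := Sylow.normalizer_sup_eq_top' Q hQle
    obtain ⟨t, htN, htS⟩ : ∃ t ∈ Subgroup.normalizer ((Q : Subgroup T) : Set T), t ∉ both G x y := by
      by_contra h
      push Not at h
      rw [sup_eq_right.2 h] at hF
      rw [hF, Subgroup.index_top] at hidx
      exact absurd hidx (by norm_num)
    rw [even_iff_two_dvd]
    have h2 : 2 ∣ orderOf t := by
      by_contra h
      obtain ⟨j, hj⟩ : Odd (orderOf t) := Nat.odd_iff.2 (by omega)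
      have h1 := pow_orderOf_eq_one t
      rw [hj, pow_succ, pow_mul] at h1
      exact htS (((both G x y).mul_mem_cancel_left (pow_mem (Subgroup.sq_mem_of_index_two hidx t) j)).1
        (by rw [h1]; exact one_mem _))
    exact h2.trans ((Subgroup.orderOf_coe (⟨t, htN⟩ : Subgroup.normalizer ((Q : Subgroup T) : Set T))) ▸
      orderOf_dvd_natCard _)
  -- the stabiliser of both is insoluble, hence doubly transitive on the others
  set f₀ := φ.comp (both G x y).subtype with hf₀
  have : IsPretransitive f₀.range Y := ⟨fun a b => by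
    obtain ⟨g, hgS, hg⟩ := hthree a b
    exact ⟨f₀.rangeRestrict ⟨g, hgS⟩, hg⟩⟩
  have hSins : ¬ Group.IsSolvable f₀.range := by
    intro h
    apply hTins
    have hf : Function.Injective f₀ := MulAction.toPerm_injective.comp (both G x y).subtype_injective
    have h1 : Group.IsSolvable (both G x y) := Group.isSolvable_of_isSolvable_injective
      (f := f₀.rangeRestrict) (MonoidHom.rangeRestrict_injective_iff.2 hf)
    have h2 : Group.IsSolvable T := solvable_of_index_two hidx h1
    exact Group.isSolvable_of_surjective (f := ι.toMonoidHom) ι.surjective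
  have h2S : IsMultiplyPretransitive f₀.range Y 2 := (Cfsg.Agent.S0675.result hYp f₀.range).resolve_left hSins
  have htwoS : ∀ {a b a' b' : Y}, a ≠ b → a' ≠ b' → ∃ g : T, g ∈ both G x y ∧ g • a = a' ∧ g • b = b' := by
    intro a b a' b' hab hab'
    obtain ⟨g, h1, h2⟩ := (is_two_pretransitive_iff.1 h2S) hab hab'
    obtain ⟨t, rfl⟩ := f₀.rangeRestrict_surjective g
    exact ⟨t, t.2, h1, h2⟩
  -- three-point stabilisers
  intro a b c d e f ha hb hc hd he hf hab hac hbc hde hdf hef
  obtain ⟨g₀, hg₀, h1, h2⟩ := htwoS (a := ⟨a, ha⟩) (b := ⟨b, hb⟩) (a' := ⟨d, hd⟩) (b' := ⟨e, he⟩)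
    (fun h => hab (congrArg Subtype.val h)) (fun h => hde (congrArg Subtype.val h))
  have h1' : (g₀ : G) • a = d := congrArg Subtype.val h1
  have h2' : (g₀ : G) • b = e := congrArg Subtype.val h2
  set c' := (g₀ : G) • c with hc'def
  have hg₀' : (g₀ : G) • x = x ∧ (g₀ : G) • y = y := hg₀
  have hc' : c' ∈ others G x y := (g₀ • (⟨c, hc⟩ : others G x y)).2
  have hc'd : c' ≠ d := fun h => hac (smul_left_cancel (g₀ : G) (h1'.trans h.symm))
  have hc'e : c' ≠ e := fun h => hbc (smul_left_cancel (g₀ : G) (h2'.trans h.symm))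
  -- it suffices to move `c'` to `f`
  set U := stabilizer G x ⊓ stabilizer G y ⊓ stabilizer G d ⊓ stabilizer G e with hU
  suffices hcf : f ∈ orbit U c' by
    obtain ⟨u, hu⟩ := hcf
    refine ⟨(u : G) * g₀, ?_, ?_, ?_, ?_, ?_⟩ <;> rw [mul_smul]
    · rw [hg₀'.1]; exact u.2.1.1.1
    · rw [hg₀'.2]; exact u.2.1.1.2
    · rw [h1']; exact u.2.1.2
    · rw [h2']; exact u.2.2
    · exact hu
  -- the stabiliser of the pair and of `d`, `e` is transitive on the rest
  set W : Set Ω := {z | z ≠ x ∧ z ≠ y ∧ z ≠ d ∧ z ≠ e} with hW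
  have hkT : ∀ u v : Ω, u ∈ W → v ∈ W → ∃ t : G, t ∈ T ∧ t • d = d ∧ t • e = e ∧ t • u = v := by
    intro u v hu hv
    let e1 : Fin 3 ↪ Y := ⟨![⟨d, hd⟩, ⟨e, he⟩, ⟨u, mem_others.2 ⟨hu.1, hu.2.1⟩⟩], by
      intro i j hij
      have hij' := congrArg Subtype.val hij
      fin_cases i <;> fin_cases j <;> first
        | rfl
        | exact absurd hij' hde
        | exact absurd hij'.symm hde
        | exact absurd hij' hu.2.2.1
        | exact absurd hij'.symm hu.2.2.1
        | exact absurd hij' hu.2.2.2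
        | exact absurd hij'.symm hu.2.2.2⟩
    let e2 : Fin 3 ↪ Y := ⟨![⟨d, hd⟩, ⟨e, he⟩, ⟨v, mem_others.2 ⟨hv.1, hv.2.1⟩⟩], by
      intro i j hij
      have hij' := congrArg Subtype.val hij
      fin_cases i <;> fin_cases j <;> first
        | rfl
        | exact absurd hij' hde
        | exact absurd hij'.symm hde
        | exact absurd hij' hv.2.2.1
        | exact absurd hij'.symm hv.2.2.1
        | exact absurd hij' hv.2.2.2
        | exact absurd hij'.symm hv.2.2.2⟩
    obtain ⟨g, hg⟩ := h3T.exists_smul_eq e1 e2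
    obtain ⟨t, rfl⟩ := ι.surjective g
    have hgi : ∀ i, (t • e1 i : Y) = e2 i := fun i => DFunLike.congr_fun hg i
    exact ⟨t, t.2, congrArg Subtype.val (hgi 0), congrArg Subtype.val (hgi 1), congrArg Subtype.val (hgi 2)⟩
  have hTinW : ∀ t : G, t ∈ T → t • d = d → t • e = e → ∀ z, z ∈ W → t • z ∈ W := by
    intro t ht htd hte z hz
    have h4 : t • z ∈ others G x y := ((⟨t, ht⟩ : T) • (⟨z, mem_others.2 ⟨hz.1, hz.2.1⟩⟩ : others G x y)).2
    exact ⟨(mem_others.1 h4).1, (mem_others.1 h4).2, fun h => hz.2.2.1 (smul_left_cancel t (h.trans htd.symm)),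
      fun h => hz.2.2.2 (smul_left_cancel t (h.trans hte.symm))⟩
  have hc'W : c' ∈ W := ⟨(mem_others.1 hc').1, (mem_others.1 hc').2, hc'd, hc'e⟩
  have hfW : f ∈ W := ⟨(mem_others.1 hf).1, (mem_others.1 hf).2, hdf.symm, hef.symm⟩
  by_contra hcf
  have hswapOf : ∀ t : G, t ∈ T → t • d = d → t • e = e → t ∉ U → t • x = y ∧ t • y = x := by
    intro t ht htd hte htU
    exact (mem_pair_iff.1 ht).resolve_left fun h => htU ⟨⟨⟨h.1, h.2⟩, htd⟩, hte⟩
  obtain ⟨t, htT, htd, hte, htc⟩ := hkT c' f hc'W hfW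
  have htU : t ∉ U := fun h => hcf ⟨⟨t, h⟩, htc⟩
  obtain ⟨htx, hty⟩ := hswapOf t htT htd hte htU
  apply hcf
  rw [← htc]
  refine smul_mem_orbit_of_odd U t (fun s hs => ?_) W (fun z => ⟨fun h => ?_, hTinW t htT htd hte z⟩)
    (fun s hs z hz => hTinW s (mem_pair_iff.2 (Or.inl ⟨hs.1.1.1, hs.1.1.2⟩)) hs.1.2 hs.2 z hz) ?_ hc'W hfW ?_
  · have hix : t⁻¹ • x = y := inv_smul_eq_iff.2 hty.symm
    have hiy : t⁻¹ • y = x := inv_smul_eq_iff.2 htx.symm
    have hid : t⁻¹ • d = d := inv_smul_eq_iff.2 htd.symm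
    have hie : t⁻¹ • e = e := inv_smul_eq_iff.2 hte.symm
    refine ⟨⟨⟨?_, ?_⟩, ?_⟩, ?_⟩ <;> show (t * s * t⁻¹) • _ = _ <;> rw [mul_smul, mul_smul]
    · rw [hix, show s • y = y from hs.1.1.2, hty]
    · rw [hiy, show s • x = x from hs.1.1.1, htx]
    · rw [hid, show s • d = d from hs.1.2, htd]
    · rw [hie, show s • e = e from hs.2, hte]
  · have := hTinW t⁻¹ (inv_mem htT) (inv_smul_eq_iff.2 htd.symm) (inv_smul_eq_iff.2 hte.symm) _ h
    rwa [inv_smul_smul] at this
  · have hne : ∀ {u}, u ∈ others G x y → u ≠ x ∧ u ≠ y := fun h => mem_others.1 h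
    have hc4 : W = ({x, y, d, e} : Set Ω)ᶜ := by
      ext z; simp [hW, not_or]
    have h4 : ({x, y, d, e} : Set Ω).ncard = 4 := by
      rw [Set.ncard_insert_of_notMem, Set.ncard_insert_of_notMem, Set.ncard_pair hde] <;>
        simp [hxy, (hne hd).1.symm, (hne he).1.symm, (hne hd).2.symm, (hne he).2.symm]
    rw [hc4, Nat.card_coe_set_eq, Set.ncard_compl, h4, hΩ]
    have := hq.out.eq_two_or_odd
    rw [Nat.odd_iff]
    omega
  · intro z hz
    obtain ⟨s, hsT, hsd, hse, hsc⟩ := hkT c' z hc'W hz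
    by_cases hsU : s ∈ U
    · exact Or.inl ⟨⟨s, hsU⟩, hsc⟩
    obtain ⟨hsx, hsy⟩ := hswapOf s hsT hsd hse hsU
    refine Or.inr ⟨⟨s * t⁻¹, ⟨⟨⟨?_, ?_⟩, ?_⟩, ?_⟩⟩, ?_⟩
    · show (s * t⁻¹) • x = x
      rw [mul_smul, inv_smul_eq_iff.2 hty.symm, hsy]
    · show (s * t⁻¹) • y = y
      rw [mul_smul, inv_smul_eq_iff.2 htx.symm, hsx]
    · show (s * t⁻¹) • d = d
      rw [mul_smul, inv_smul_eq_iff.2 htd.symm, hsd]
    · show (s * t⁻¹) • e = e
      rw [mul_smul, inv_smul_eq_iff.2 hte.symm, hse]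
    · show (s * t⁻¹) • f = z
      rw [mul_smul, inv_smul_eq_iff.2 htc.symm, hsc]

include hΩ hins P hN in
theorem five (hpq : p = q + 2) (hq5 : 5 < q) : IsMultiplyPretransitive G Ω 5 := by
  classical
  refine ⟨fun a b => ?_⟩
  obtain ⟨g, hg0, hg1⟩ := two hΩ hins (a.injective.ne (show (0 : Fin 5) ≠ 1 by decide))
    (b.injective.ne (show (0 : Fin 5) ≠ 1 by decide))
  have hne : ∀ i j : Fin 5, i ≠ j → g • a i ≠ g • a j := fun i j hij e =>
    hij (a.injective (smul_left_cancel g e))
  have hm : ∀ i : Fin 5, i ≠ 0 → i ≠ 1 → g • a i ∈ others G (b 0) (b 1) := fun i h0 h1 =>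
    mem_others.2 ⟨hg0 ▸ hne i 0 h0, hg1 ▸ hne i 1 h1⟩
  have hm' : ∀ i : Fin 5, i ≠ 0 → i ≠ 1 → b i ∈ others G (b 0) (b 1) := fun i h0 h1 =>
    mem_others.2 ⟨b.injective.ne h0, b.injective.ne h1⟩
  obtain ⟨k, hk0, hk1, hk2, hk3, hk4⟩ := facts hΩ hins P hN hpq hq5
    (b.injective.ne (show (0 : Fin 5) ≠ 1 by decide))
    (hm 2 (by decide) (by decide)) (hm 3 (by decide) (by decide)) (hm 4 (by decide) (by decide))
    (hm' 2 (by decide) (by decide)) (hm' 3 (by decide) (by decide)) (hm' 4 (by decide) (by decide))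
    (hne 2 3 (by decide)) (hne 2 4 (by decide)) (hne 3 4 (by decide))
    (b.injective.ne (show (2 : Fin 5) ≠ 3 by decide)) (b.injective.ne (show (2 : Fin 5) ≠ 4 by decide))
    (b.injective.ne (show (3 : Fin 5) ≠ 4 by decide))
  refine ⟨k * g, ?_⟩
  ext i
  rw [Function.Embedding.smul_apply, mul_smul]
  fin_cases i
  · show k • g • a 0 = _
    rw [hg0]; exact hk0
  · show k • g • a 1 = _
    rw [hg1]; exact hk1
  · exact hk2
  · exact hk3
  · exact hk4

end Cfsg.Agent.HalfNorm.TwinPrime
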