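import Mathlib
import Cfsg.Agent.S0713
import Cfsg.Agent.MinDeg.TwoTrans

/-!
# A multiply transitive group of degree `k * r + f` with `k < f ≤ 4` and `r` prime contains the alternating group

The normaliser of a Sylow `r`-subgroup of the stabiliser of `f` points induces the symmetric group on them, and acts
on that subgroup through power maps.
-/

set_option autoImplicit false
set_option linter.unusedSectionVars false

namespace Cfsg.Agent.HalfNorm.TwinPrime

open MulAction
open scoped Pointwise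

/-- An orbit of prime length `r` of an `r`-group carries a cyclic group. -/
theorem orbit_cyclic {R Ω : Type*} [Group R] [Finite R] [MulAction R Ω] {r : ℕ} [hr : Fact r.Prime]
    (hR : IsPGroup r R) (v : Ω) (hv : (orbit R v).ncard = r) :
    ∀ s : R, s • v ≠ v →
      ((∀ x : R, ∃ i : ℕ, ∀ w ∈ orbit R v, x • w = s ^ i • w) ∧ ∀ x : R, ∀ w ∈ orbit R v, x ^ r • w = w) := by
  intro s hs
  have hidx : (stabilizer R v).index = r := by rw [index_stabilizer, hv]
  have hn : (stabilizer R v).Normal := by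
    refine Subgroup.normal_of_index_eq_minFac_card ?_
    obtain ⟨n, hn⟩ := IsPGroup.iff_card.1 hR
    have hn0 : n ≠ 0 := by
      rintro rfl
      have h := Subgroup.index_dvd_card (stabilizer R v)
      rw [hidx, hn, pow_zero, Nat.dvd_one] at h
      exact hr.out.ne_one h
    rw [hidx, hn, hr.out.pow_minFac hn0]
  have hfix : ∀ h ∈ stabilizer R v, ∀ w ∈ orbit R v, h • w = w := by
    rintro h hh _ ⟨y, rfl⟩
    have h1 : (y⁻¹ * h * y) • v = v := by
      have := hn.conj_mem h hh y⁻¹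
      rwa [inv_inv] at this
    rwa [mul_smul, mul_smul, inv_smul_eq_iff] at h1
  refine ⟨fun x => ?_, fun x w hw => hfix _ (hidx ▸ Subgroup.pow_index_mem _ x) w hw⟩
  have hs' : (QuotientGroup.mk s : R ⧸ stabilizer R v) ≠ 1 := fun h => hs ((QuotientGroup.eq_one_iff s).1 h)
  have hx : (QuotientGroup.mk x : R ⧸ stabilizer R v) ∈ Submonoid.powers (QuotientGroup.mk s) :=
    mem_powers_iff_mem_zpowers.2 (mem_zpowers_of_prime_card (p := r) hidx hs')
  obtain ⟨i, hi⟩ := Submonoid.mem_powers_iff _ _ |>.1 hx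
  refine ⟨i, fun w hw => ?_⟩
  rw [← QuotientGroup.mk_pow, QuotientGroup.eq] at hi
  have h := hfix _ hi w hw
  rw [mul_smul, inv_smul_eq_iff] at h
  exact h

variable {G Ω : Type*} [Group G] [Finite G] [MulAction G Ω] [FaithfulSMul G Ω] [Fintype Ω] [DecidableEq Ω]

/-- The points of `F`, as acted on by its setwise stabiliser. -/
def inside (G : Type*) [Group G] [MulAction G Ω] (F : Finset Ω) :
    SubMulAction (stabilizer G (F : Set Ω)) Ω where
  carrier := (F : Set Ω)
  smul_mem' := fun g z hz => by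
    have e : (g : G) • (F : Set Ω) = F := g.2
    exact e.subset (Set.smul_mem_smul_set hz)

variable {r k f : ℕ} [hr : Fact r.Prime]

set_option maxHeartbeats 1600000 in
include hr in
theorem alt_le (hr3 : 3 < r) (hk : k = 2 ∨ k = 3) (hf : f = k + 1) (hn : Fintype.card Ω = f + k * r)
    (ht : IsMultiplyPretransitive G Ω (f + 1)) : alternatingGroup Ω ≤ (toPermHom G Ω).range := by
  classical
  by_contra hnot
  have hr5 : 5 ≤ r := by
    rcases Nat.lt_or_ge r 5 with h | h
    · interval_cases r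
      exact absurd hr.out (by decide)
    · exact h
  have hkr : r * 2 ≤ k * r := by rw [mul_comm r 2]; exact Nat.mul_le_mul_right r (by omega)
  have hkr2 : k * r < r * r := Nat.mul_lt_mul_of_pos_right (by omega) (by omega)
  have ht2 : IsMultiplyPretransitive G Ω 2 := isMultiplyPretransitive_of_le (show 2 ≤ f + 1 by omega) (by
    rw [Nat.card_eq_fintype_card, hn]; omega)
  have hprimG : IsPreprimitive G Ω := isPreprimitive_of_is_two_pretransitive ht2
  have hprim : IsPreprimitive (toPermHom G Ω).range Ω := by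
    let ψ : G →* (toPermHom G Ω).range := (toPermHom G Ω).rangeRestrict
    let g : Ω →ₑ[ψ] Ω := { toFun := id, map_smul' := fun m x => rfl }
    exact IsPreprimitive.of_surjective (f := g) Function.surjective_id
  -- no element of small support
  have hno3 : ∀ c ∈ (toPermHom G Ω).range, ¬ c.IsThreeCycle := fun c hc h3 =>
    hnot (Equiv.Perm.alternatingGroup_le_of_isPreprimitive_of_isThreeCycle_mem hprim h3 hc)
  have hsmall : ∀ g : G, (∀ A : Finset Ω, A.card ≤ 4 → (∀ z ∉ A, g • z = z) → g = 1) := by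
    intro g A hA hg
    by_contra hg1
    have hne : toPermHom G Ω g ≠ 1 := fun h => hg1 (MulAction.toPerm_injective (α := G) (β := Ω)
      (h.trans (map_one (toPermHom G Ω)).symm))
    have hsupp : (toPermHom G Ω g).support.card ≤ 4 := (Finset.card_le_card fun z hz => by
      rw [Equiv.Perm.mem_support] at hz
      by_contra h
      exact hz (hg z h)).trans hA
    have hb := Cfsg.Agent.MinDeg.two_transitive_bound (toPermHom G Ω).range (fun x u v hu hv => by
      obtain ⟨g, h1, h2⟩ := (is_two_pretransitive_iff.1 ht2) hu.symm hv.symm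
      exact ⟨_, ⟨g, rfl⟩, h1, h2⟩) (fun c hc h3 => hno3 c hc (by convert h3)) _ ⟨g, rfl⟩ hne
    have hb' : Fintype.card Ω ≤ ((toPermHom G Ω g).support.card - 1) ^ 2 + 1 := by convert hb
    have : ((toPermHom G Ω g).support.card - 1) ^ 2 ≤ 3 ^ 2 := Nat.pow_le_pow_left (by omega) 2
    omega
  have hnocycle : ∀ g : G, g ^ r = 1 → ∀ A : Finset Ω, A.card ≤ r → (∀ z ∉ A, g • z = z) → g = 1 := by
    intro g hgr A hA hg
    by_contra hg1
    have hord : orderOf (toPermHom G Ω g) = r := by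
      rw [orderOf_injective (toPermHom G Ω) MulAction.toPerm_injective, orderOf_eq_prime hgr hg1]
    have hsupp : (toPermHom G Ω g).support.card ≤ r := (Finset.card_le_card fun z hz => by
      rw [Equiv.Perm.mem_support] at hz
      by_contra h
      exact hz (hg z h)).trans hA
    have hc : (toPermHom G Ω g).IsCycle :=
      Equiv.Perm.isCycle_of_prime_order (by rw [hord]; exact hr.out) (by rw [hord]; omega)
    exact hnot (Cfsg.Agent.S0713.result _ hprim hr.out (by omega) (by omega) hc (by rw [← hc.orderOf, hord]) ⟨g, rfl⟩)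
  -- the pointwise and setwise stabilisers of `f` points
  obtain ⟨F, -, hF⟩ := Finset.exists_subset_card_eq (s := (Finset.univ : Finset Ω)) (n := f) (by
    rw [Finset.card_univ]; omega)
  set ρ := toPermHom (stabilizer G (F : Set Ω)) (inside G F) with hρ
  have hmemF : ∀ g : G, g ∈ stabilizer G (F : Set Ω) ↔ ∀ a ∈ F, g • a ∈ F := fun g => by
    rw [mem_stabilizer_iff]
    refine ⟨fun h a ha => h.subset (Set.smul_mem_smul_set (show a ∈ (F : Set Ω) from ha)), fun h => ?_⟩
    refine Set.eq_of_subset_of_ncard_le ?_ (by rw [Set.ncard_smul_set]) F.finite_toSet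
    rintro _ ⟨a, ha, rfl⟩
    exact h a ha
  set K := ρ.ker with hKdef
  have hK : ∀ g : stabilizer G (F : Set Ω), g ∈ K ↔ ∀ a ∈ F, g • a = a := fun g => by
    rw [hKdef, MonoidHom.mem_ker]
    refine ⟨fun h a ha => congrArg Subtype.val (Equiv.ext_iff.1 h ⟨a, ha⟩), fun h => Equiv.ext fun a => ?_⟩
    exact Subtype.ext (h a a.2)
  let eF : Fin f ≃ F := (F.equivFinOfCardEq hF).symm
  have hKtr : ∀ u v : Ω, u ∉ F → v ∉ F → ∃ g ∈ K, g • u = v := by
    intro u v hu hv
    let emb : ∀ w : Ω, w ∉ F → Fin (f + 1) ↪ Ω := fun w hw =>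
      ⟨Fin.snoc (fun i => (eF i : Ω)) w, Fin.snoc_injective_of_injective
        (Subtype.val_injective.comp eF.injective) (by rintro ⟨i, hi⟩; exact hw (hi ▸ (eF i).2))⟩
    obtain ⟨g, hg⟩ := ht.exists_smul_eq (emb u hu) (emb v hv)
    have hgi : ∀ i, g • emb u hu i = emb v hv i := fun i => DFunLike.congr_fun hg i
    have hgF : ∀ a ∈ F, g • a = a := fun a ha => by
      obtain ⟨i, hi⟩ := eF.surjective ⟨a, ha⟩
      simpa [emb, hi] using hgi i.castSucc
    refine ⟨⟨g, (hmemF g).2 fun a ha => by rw [hgF a ha]; exact ha⟩, (hK _).2 hgF, ?_⟩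
    simpa [emb] using hgi (Fin.last f)
  have hρsurj : Function.Surjective ρ := by
    intro σ
    have htf : IsMultiplyPretransitive G Ω f := isMultiplyPretransitive_of_le (show f ≤ f + 1 by omega) (by
      rw [Nat.card_eq_fintype_card, hn]; omega)
    let e1 : Fin f ↪ Ω := ⟨fun i => (eF i : Ω), Subtype.val_injective.comp eF.injective⟩
    let e2 : Fin f ↪ Ω := ⟨fun i => ((σ ⟨eF i, (eF i).2⟩ : inside G F) : Ω), fun i j h => by
      have := congrArg Subtype.val (σ.injective (Subtype.ext h))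
      exact eF.injective (Subtype.ext this)⟩
    obtain ⟨g, hg⟩ := htf.exists_smul_eq e1 e2
    have hga : ∀ (a : Ω) (ha : a ∈ F), g • a = ((σ ⟨a, ha⟩ : inside G F) : Ω) := fun a ha => by
      obtain ⟨i, hi⟩ := eF.surjective ⟨a, ha⟩
      have := DFunLike.congr_fun hg i
      simp only [Function.Embedding.smul_apply, e1, e2] at this
      change g • (eF i : Ω) = ((σ ⟨eF i, (eF i).2⟩ : inside G F) : Ω) at this
      simpa [hi] using this
    refine ⟨⟨g, (hmemF g).2 fun a ha => hga a ha ▸ (σ ⟨a, ha⟩).2⟩, Equiv.ext fun a => Subtype.ext ?_⟩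
    exact hga a a.2
  -- a Sylow subgroup of the pointwise stabiliser
  obtain ⟨R⟩ : Nonempty (Sylow r K) := inferInstance
  set R₀ := (R : Subgroup K).map K.subtype with hR₀
  have hR₀K : R₀ ≤ K := Subgroup.map_subtype_le _
  have hR₀p : IsPGroup r R₀ := R.isPGroup'.map _
  have hcompl : ∀ v, v ∉ F → ∀ x : stabilizer G (F : Set Ω), x • v ∉ F := fun v hv x h => by
    have := (hmemF _).1 (inv_mem x.2) _ h
    rw [show ((x : G))⁻¹ • (x • v) = v from inv_smul_smul (x : G) v] at this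
    exact hv this
  have horb : ∀ v, v ∉ F → (orbit R₀ v).ncard = r := by
    intro v hv
    obtain ⟨j, hj⟩ : ∃ j, (stabilizer R₀ v).index = r ^ j := hR₀p.index _
    rw [index_stabilizer] at hj
    have hsub : orbit R₀ v ⊆ ((Fᶜ : Finset Ω) : Set Ω) := by
      rintro _ ⟨x, rfl⟩
      rw [Finset.coe_compl]
      exact hcompl v hv x
    have hle := Set.ncard_le_ncard hsub (Finset.finite_toSet _)
    rw [Set.ncard_coe_finset, Finset.card_compl, hn, hF, hj] at hle
    have hj2 : j < 2 := by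
      by_contra h
      have := Nat.pow_le_pow_right hr.out.pos (show 2 ≤ j by omega)
      rw [pow_two] at this
      omega
    rcases Nat.eq_zero_or_pos j with rfl | hj0
    · exfalso
      rw [pow_zero] at hj
      have hfixR : ∀ x ∈ R₀, x • v = v := fun x hx => by
        obtain ⟨w, hw⟩ := Set.ncard_eq_one.1 hj
        have h1 : x • v ∈ orbit R₀ v := ⟨⟨x, hx⟩, rfl⟩
        have h2 := mem_orbit_self (M := R₀) v
        rw [hw, Set.mem_singleton_iff] at h1 h2
        rw [h1, h2]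
      have hle : (R : Subgroup K) ≤ stabilizer K v := fun x hx => hfixR _ (Subgroup.mem_map_of_mem _ hx)
      have horbK : orbit K v = ((Fᶜ : Finset Ω) : Set Ω) := by
        ext w
        rw [Finset.coe_compl]
        exact ⟨fun ⟨x, hx⟩ => hx ▸ hcompl v hv x, fun hw => (hKtr v w hv hw).elim fun g hg => ⟨⟨g, hg.1⟩, hg.2⟩⟩
      have hdvd := Subgroup.index_dvd_of_le hle
      rw [index_stabilizer, horbK, Set.ncard_coe_finset, Finset.card_compl, hn, hF, Nat.add_sub_cancel_left] at hdvd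
      exact R.not_dvd_index ((dvd_mul_left r k).trans hdvd)
    · rw [hj, show j = 1 by omega, pow_one]
  set N := Subgroup.normalizer (R₀ : Set (stabilizer G (F : Set Ω))) with hNdef
  have hsupN : N ⊔ K = ⊤ := Sylow.normalizer_sup_eq_top R
  -- the action on the orbits
  let Q : Finset (Set Ω) := Fᶜ.image fun v => orbit R₀ v
  have hQk : Q.card = k := by
    have h := Finset.card_eq_sum_card_image (fun v => orbit R₀ v) Fᶜ
    rw [Finset.sum_congr rfl (g := fun _ => r) (fun O hO => ?_), Finset.sum_const, Finset.card_compl, hn, hF,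
      Nat.add_sub_cancel_left, smul_eq_mul] at h
    · exact Nat.eq_of_mul_eq_mul_right hr.out.pos h.symm
    · obtain ⟨v, hv, rfl⟩ := Finset.mem_image.1 hO
      have hvF : v ∉ F := Finset.mem_compl.1 hv
      rw [← Set.ncard_coe_finset, ← horb v hvF]
      congr 1
      ext w
      simp only [Finset.coe_filter, Finset.mem_compl, Set.mem_setOf_eq, orbit_eq_iff]
      exact ⟨fun h => h.2, fun ⟨x, hx⟩ => ⟨hx ▸ hcompl v hvF x, ⟨x, hx⟩⟩⟩
  have hsmulorb : ∀ g : N, ∀ v : Ω, (fun t => g • t) '' orbit R₀ v = orbit R₀ (g • v) := by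
    intro g v
    have hg := Subgroup.mem_normalizer_iff.1 g.2
    ext w
    constructor
    · rintro ⟨_, ⟨x, rfl⟩, rfl⟩
      exact ⟨⟨_, (hg x).1 x.2⟩, show ((g : stabilizer G (F : Set Ω)) * x * (g : stabilizer G (F : Set Ω))⁻¹) •
        ((g : stabilizer G (F : Set Ω)) • v) = (g : stabilizer G (F : Set Ω)) • (x : stabilizer G (F : Set Ω)) • v by
        rw [mul_smul, mul_smul, inv_smul_smul]⟩
    · rintro ⟨x, rfl⟩
      have hx : (g : stabilizer G (F : Set Ω))⁻¹ * x * g ∈ R₀ := (hg _).2 (by simpa [mul_assoc] using x.2)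
      refine ⟨_, ⟨⟨_, hx⟩, rfl⟩, ?_⟩
      show (g : stabilizer G (F : Set Ω)) • ((g : stabilizer G (F : Set Ω))⁻¹ * x * g) • v = _
      rw [mul_smul, mul_smul, smul_inv_smul]
      rfl
  let Qs : SubMulAction N (Set Ω) :=
    { carrier := (Q : Set (Set Ω))
      smul_mem' := fun g O hO => by
        obtain ⟨v, hv, rfl⟩ := Finset.mem_image.1 hO
        refine Finset.mem_image.2 ⟨g • v, Finset.mem_compl.2 (hcompl v (Finset.mem_compl.1 hv) g), ?_⟩
        exact (hsmulorb g v).symm }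
  set φ := toPermHom N Qs with hφ
  have hQs : Nat.card Qs = k := by
    rw [← hQk, ← Nat.card_eq_finsetCard]
    exact Nat.card_congr (Equiv.subtypeEquivRight fun O => Iff.rfl)
  have hfix0 : ∀ g ∈ φ.ker, ∀ v : Ω, v ∉ F → g • v ∈ orbit R₀ v := by
    intro g hg v hv
    have h1 : (fun t => g • t) '' orbit R₀ v = orbit R₀ v :=
      congrArg Subtype.val (Equiv.ext_iff.1 (MonoidHom.mem_ker.1 hg)
        (⟨orbit R₀ v, Finset.mem_image.2 ⟨v, Finset.mem_compl.2 hv, rfl⟩⟩ : Qs))
    rw [← h1]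
    exact ⟨v, mem_orbit_self v, rfl⟩
  set ρN := ρ.comp N.subtype with hρN
  have hρNsurj : Function.Surjective ρN := by
    intro σ
    obtain ⟨g, rfl⟩ := hρsurj σ
    have hg : g ∈ N ⊔ K := by rw [hsupN]; trivial
    rw [Subgroup.mem_sup_of_normal_right] at hg
    obtain ⟨a, ha, b, hb, rfl⟩ := hg
    exact ⟨⟨a, ha⟩, show ρ a = ρ (a * b) by rw [map_mul, MonoidHom.mem_ker.1 hb, mul_one]⟩
  have hFcard : Nat.card (inside G F) = f := by
    rw [← hF, ← Nat.card_eq_finsetCard]
    exact Nat.card_congr (Equiv.subtypeEquivRight fun a => Iff.rfl)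
  obtain ⟨g, hgφ, hgρ⟩ : ∃ g ∈ φ.ker, ρN g ≠ 1 := by
    by_contra h
    push Not at h
    have hle : φ.ker ≤ ρN.ker := fun g hg => MonoidHom.mem_ker.2 (h g hg)
    have h1 := Subgroup.index_dvd_of_le hle
    rw [Subgroup.index_ker, Subgroup.index_ker, MonoidHom.range_eq_top.2 hρNsurj, Subgroup.card_top,
      Nat.card_perm, hFcard] at h1
    have h2 := h1.trans (Subgroup.card_subgroup_dvd_card _)
    rw [Nat.card_perm, hQs] at h2
    have := Nat.le_of_dvd (Nat.factorial_pos k) h2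
    rw [hf, Nat.factorial_succ] at this
    have := Nat.factorial_pos k
    nlinarith [show 2 ≤ k by omega]
  have horbit : ∀ v : Ω, v ∉ F → ∀ w ∈ orbit R₀ v, w ∉ F := by
    rintro v hv _ ⟨x, rfl⟩
    exact hcompl v hv x
  have hmoved : ∀ v : Ω, v ∉ F → ∃ s : R₀, s • v ≠ v := by
    intro v hv
    by_contra h
    push Not at h
    have h1 : orbit R₀ v = {v} := Set.eq_singleton_iff_unique_mem.2 ⟨mem_orbit_self v, fun w ⟨x, hx⟩ => hx ▸ h x⟩
    have := horb v hv
    rw [h1, Set.ncard_singleton] at this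
    omega
  have heqOn : ∀ v : Ω, v ∉ F → ∀ (x y : R₀), (∀ w ∈ orbit R₀ v, x • w = y • w) →
      ∀ n : ℕ, ∀ w ∈ orbit R₀ v, x ^ n • w = y ^ n • w := by
    intro v hv x y hxy n
    induction n with
    | zero => intro w _; simp
    | succ n ih =>
      intro w hw
      rw [pow_succ, pow_succ, mul_smul, mul_smul, hxy w hw]
      exact ih _ (mem_orbit_of_mem_orbit y hw)
  have hrpow : ∀ x : R₀, x ^ r = 1 := by
    intro x
    refine Subtype.ext (Subtype.ext (FaithfulSMul.eq_of_smul_eq_smul (α := Ω) fun w => ?_))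
    by_cases hw : w ∈ F
    · exact (((hK _).1 (hR₀K (x ^ r).2) w hw)).trans (one_smul G w).symm
    · obtain ⟨s, hs⟩ := hmoved w hw
      exact (((orbit_cyclic hR₀p w (horb w hw) s hs).2 x w (mem_orbit_self w))).trans (one_smul G w).symm
  have hext : ∀ x y : R₀, (∀ w : Ω, w ∉ F → x • w = y • w) → x = y := by
    intro x y h
    refine Subtype.ext (Subtype.ext (FaithfulSMul.eq_of_smul_eq_smul (α := Ω) fun w => ?_))
    by_cases hw : w ∈ F
    · exact ((hK _).1 (hR₀K x.2) w hw).trans ((hK _).1 (hR₀K y.2) w hw).symm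
    · exact h w hw
  have hone : ∀ v : Ω, v ∉ F → ∀ x : R₀, (∀ w, w ∉ F → w ∉ orbit R₀ v → x • w = w) → x = 1 := by
    intro v hv x hx
    have hg : (((x : stabilizer G (F : Set Ω)) : G)) = 1 := by
      refine hnocycle _ ?_ (orbit R₀ v).toFinset ?_ fun z hz => ?_
      · exact congrArg (fun t : R₀ => (((t : stabilizer G (F : Set Ω)) : G))) (hrpow x)
      · rw [← Set.ncard_eq_toFinset_card', horb v hv]
      · by_cases hzF : z ∈ F
        · exact (hK _).1 (hR₀K x.2) z hzF
        · exact hx z hzF (fun h => hz (Set.mem_toFinset.2 h))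
    exact Subtype.ext (Subtype.ext hg)
  -- conjugation by an element fixing the orbits
  let cj : N → R₀ → R₀ := fun h x => ⟨(h : stabilizer G (F : Set Ω)) * x * (h : stabilizer G (F : Set Ω))⁻¹,
    (Subgroup.mem_normalizer_iff.1 h.2 _).1 x.2⟩
  have hcjmul : ∀ h h' x, cj (h * h') x = cj h (cj h' x) := fun h h' x => Subtype.ext (by
    show (h : stabilizer G (F : Set Ω)) * h' * x * ((h : stabilizer G (F : Set Ω)) * h')⁻¹ = _
    simp [cj, mul_assoc])
  have hcjpow : ∀ (h : N) (x : R₀) (n : ℕ), cj h (x ^ n) = cj h x ^ n := fun h x n => Subtype.ext (by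
    show (h : stabilizer G (F : Set Ω)) * ((x ^ n : R₀) : stabilizer G (F : Set Ω)) * _ = _
    rw [SubmonoidClass.coe_pow, SubmonoidClass.coe_pow, conj_pow])
  have hcjsmul : ∀ (h : N) (x : R₀) (w : Ω), cj h x • (h • w) = h • x • w := fun h x w => by
    show ((h : stabilizer G (F : Set Ω)) * x * (h : stabilizer G (F : Set Ω))⁻¹) •
      ((h : stabilizer G (F : Set Ω)) • w) = _
    rw [mul_smul, mul_smul, inv_smul_smul]
    rfl
  have hexp : ∀ v : Ω, v ∉ F → ∃ a : ℕ, ∀ (x : R₀), ∀ w ∈ orbit R₀ v, cj g x • w = x ^ a • w := by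
    intro v hv
    obtain ⟨s, hs⟩ := hmoved v hv
    obtain ⟨hgen, -⟩ := orbit_cyclic hR₀p v (horb v hv) s hs
    obtain ⟨a, ha⟩ := hgen (cj g s)
    refine ⟨a, fun x w hw => ?_⟩
    obtain ⟨i, hi⟩ := hgen x
    have hgw : g⁻¹ • w ∈ orbit R₀ v := by
      have := hfix0 g⁻¹ (inv_mem hgφ) w (horbit v hv w hw)
      rwa [orbit_eq_iff.2 hw] at this
    calc cj g x • w = cj g x • g • g⁻¹ • w := by rw [smul_inv_smul]
      _ = g • x • g⁻¹ • w := hcjsmul g x _
      _ = g • s ^ i • g⁻¹ • w := by rw [hi _ hgw]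
      _ = cj g (s ^ i) • w := by rw [← hcjsmul, smul_inv_smul]
      _ = cj g s ^ i • w := by rw [hcjpow]
      _ = (s ^ a) ^ i • w := heqOn v hv _ _ ha i w hw
      _ = (s ^ i) ^ a • w := by rw [← pow_mul, ← pow_mul, mul_comm]
      _ = x ^ a • w := (heqOn v hv _ _ hi a w hw).symm
  -- one exponent for all orbits
  obtain ⟨a, ha⟩ : ∃ a : ℕ, ∀ x : R₀, cj g x = x ^ a := by
    obtain ⟨v₀, hv₀⟩ : ∃ v, v ∉ F := by
      obtain ⟨v, -, hv⟩ := Finset.exists_mem_notMem_of_card_lt_card (s := F) (t := (Finset.univ : Finset Ω))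
        (by rw [Finset.card_univ]; omega)
      exact ⟨v, hv⟩
    obtain ⟨s, hs⟩ := hmoved v₀ hv₀
    by_cases hcyc : Nat.card R₀ = r
    · have : Fact (1 < Nat.card R₀) := ⟨by omega⟩
      have hs1 : s ≠ 1 := fun h => hs (by rw [h, one_smul])
      have hpw : ∀ x : R₀, ∃ i : ℕ, s ^ i = x := fun x =>
        (Submonoid.mem_powers_iff _ _).1 (mem_powers_of_prime_card (p := r) hcyc hs1)
      obtain ⟨a, ha⟩ := hpw (cj g s)
      refine ⟨a, fun x => ?_⟩
      obtain ⟨i, rfl⟩ := hpw x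
      rw [hcjpow, ← ha, ← pow_mul, ← pow_mul, mul_comm]
    have hker : ∀ v : Ω, v ∉ F → ∃ x : R₀, x ≠ 1 ∧ ∀ w ∈ orbit R₀ v, x • w = w := by
      intro v hv
      by_contra h
      push Not at h
      have hbot : stabilizer R₀ v = ⊥ := by
        rw [Subgroup.eq_bot_iff_forall]
        intro x hx
        by_contra hx1
        obtain ⟨w, ⟨y, rfl⟩, hw⟩ := h x hx1
        obtain ⟨t, ht'⟩ := hmoved v hv
        obtain ⟨hgen, -⟩ := orbit_cyclic hR₀p v (horb v hv) t ht'
        obtain ⟨i, hi⟩ := hgen x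
        obtain ⟨j, hj⟩ := hgen y
        apply hw
        show x • y • v = y • v
        rw [hi _ (mem_orbit v y), hj v (mem_orbit_self v), ← mul_smul, ← pow_add, add_comm, pow_add, mul_smul,
          ← hi v (mem_orbit_self v), show x • v = v from hx]
      have hc := Subgroup.card_mul_index (stabilizer R₀ v)
      rw [hbot, Subgroup.card_bot, one_mul, ← hbot, index_stabilizer, horb v hv] at hc
      exact hcyc hc.symm
    -- two orbits and three orbits
    have hcases : ∀ v₁ v₂ v₃ : Ω, v₁ ∉ F → v₂ ∉ F → v₃ ∉ F →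
        (∀ w, w ∉ F → w ∈ orbit R₀ v₁ ∨ w ∈ orbit R₀ v₂ ∨ w ∈ orbit R₀ v₃) →
        Disjoint (orbit R₀ v₂) (orbit R₀ v₁) →
        ∀ a : ℕ, (∀ (x : R₀), ∀ w ∈ orbit R₀ v₂, cj g x • w = x ^ a • w) →
        ∀ (x : R₀), ∀ w ∈ orbit R₀ v₃, cj g x • w = x ^ a • w := by
      intro v₁ v₂ v₃ h1 h2 h3 hcov hd a ha x w hw
      obtain ⟨y, hy1, hy⟩ := hker v₁ h1
      obtain ⟨a₁, ha₁⟩ := hexp v₁ h1
      have hy0 : ∀ n : ℕ, ∀ u ∈ orbit R₀ v₁, y ^ n • u = u := fun n u hu => by
        rw [heqOn v₁ h1 y 1 (fun t ht => by rw [hy t ht, one_smul]) n u hu, one_pow, one_smul]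
      have hz : cj g y * (y ^ a)⁻¹ = 1 := by
        refine hone v₃ h3 _ fun u hu hu3 => ?_
        rcases hcov u hu with hu1 | hu2 | hu3'
        · rw [mul_smul, show (y ^ a)⁻¹ • u = u from inv_smul_eq_iff.2 (hy0 a u hu1).symm, ha₁ y u hu1, hy0 a₁ u hu1]
        · have hu' : (y ^ a)⁻¹ • u ∈ orbit R₀ v₂ := mem_orbit_of_mem_orbit _ hu2
          rw [mul_smul, ha y _ hu', smul_inv_smul]
        · exact absurd hu3' hu3
      have hy3 : y • v₃ ≠ v₃ := by
        intro hyv
        apply hy1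
        obtain ⟨t, ht'⟩ := hmoved v₃ h3
        obtain ⟨hgen, -⟩ := orbit_cyclic hR₀p v₃ (horb v₃ h3) t ht'
        refine hone v₂ h2 y fun u hu hu2 => ?_
        rcases hcov u hu with hu1 | hu2' | ⟨z, rfl⟩
        · exact hy u hu1
        · exact absurd hu2' hu2
        · obtain ⟨i, hi⟩ := hgen y
          obtain ⟨j, hj⟩ := hgen z
          show y • z • v₃ = z • v₃
          rw [hi _ (mem_orbit v₃ z), hj v₃ (mem_orbit_self _), ← mul_smul, ← pow_add, add_comm, pow_add, mul_smul,
            ← hi v₃ (mem_orbit_self _), hyv]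
      obtain ⟨hgen, -⟩ := orbit_cyclic hR₀p v₃ (horb v₃ h3) y hy3
      obtain ⟨i, hi⟩ := hgen x
      have hgw : g⁻¹ • w ∈ orbit R₀ v₃ := by
        have := hfix0 g⁻¹ (inv_mem hgφ) w (horbit v₃ h3 w hw)
        rwa [orbit_eq_iff.2 hw] at this
      calc cj g x • w = cj g x • g • g⁻¹ • w := by rw [smul_inv_smul]
        _ = g • x • g⁻¹ • w := hcjsmul g x _
        _ = g • y ^ i • g⁻¹ • w := by rw [hi _ hgw]
        _ = cj g (y ^ i) • w := by rw [← hcjsmul, smul_inv_smul]
        _ = (y ^ i) ^ a • w := by rw [hcjpow, mul_inv_eq_one.1 hz, ← pow_mul, ← pow_mul, mul_comm]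
        _ = x ^ a • w := (heqOn v₃ h3 _ _ hi a w hw).symm
    rcases hk with rfl | rfl
    · -- two orbits: the kernel on one of them would be a cycle
      exfalso
      obtain ⟨O₁, O₂, h12, hQ⟩ := Finset.card_eq_two.1 hQk
      obtain ⟨v₁, hv₁, rfl⟩ := Finset.mem_image.1 (hQ ▸ Finset.mem_insert_self _ _ : O₁ ∈ Q)
      obtain ⟨v₂, hv₂, rfl⟩ := Finset.mem_image.1 (hQ ▸ Finset.mem_insert_of_mem (Finset.mem_singleton_self _) :
        O₂ ∈ Q)
      obtain ⟨x, hx1, hx⟩ := hker v₁ (Finset.mem_compl.1 hv₁)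
      refine hx1 (hone v₂ (Finset.mem_compl.1 hv₂) x fun w hw hw2 => ?_)
      have : orbit R₀ w ∈ Q := Finset.mem_image.2 ⟨w, Finset.mem_compl.2 hw, rfl⟩
      rw [hQ, Finset.mem_insert, Finset.mem_singleton] at this
      rcases this with h | h
      · exact hx w (h ▸ mem_orbit_self w)
      · exact absurd (h ▸ mem_orbit_self w) hw2
    · obtain ⟨O₁, O₂, O₃, h12, h13, h23, hQ⟩ := Finset.card_eq_three.1 hQk
      obtain ⟨v₁, hv₁, rfl⟩ := Finset.mem_image.1 (show O₁ ∈ Q by rw [hQ]; simp)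
      obtain ⟨v₂, hv₂, rfl⟩ := Finset.mem_image.1 (show O₂ ∈ Q by rw [hQ]; simp)
      obtain ⟨v₃, hv₃, rfl⟩ := Finset.mem_image.1 (show O₃ ∈ Q by rw [hQ]; simp)
      rw [Finset.mem_compl] at hv₁ hv₂ hv₃
      have hcov : ∀ w, w ∉ F → w ∈ orbit R₀ v₁ ∨ w ∈ orbit R₀ v₂ ∨ w ∈ orbit R₀ v₃ := fun w hw => by
        have : orbit R₀ w ∈ Q := Finset.mem_image.2 ⟨w, Finset.mem_compl.2 hw, rfl⟩
        rw [hQ] at this
        simp only [Finset.mem_insert, Finset.mem_singleton] at this
        rcases this with h | h | h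
        exacts [Or.inl (h ▸ mem_orbit_self w), Or.inr (Or.inl (h ▸ mem_orbit_self w)),
          Or.inr (Or.inr (h ▸ mem_orbit_self w))]
      have hdis : ∀ u u' : Ω, orbit R₀ u ≠ orbit R₀ u' → Disjoint (orbit R₀ u) (orbit R₀ u') := fun u u' h =>
        Set.disjoint_left.2 fun t h1 h2 => h ((orbit_eq_iff.2 h1).symm.trans (orbit_eq_iff.2 h2))
      obtain ⟨a, ha⟩ := hexp v₂ hv₂
      refine ⟨a, fun x => hext _ _ fun w hw => ?_⟩
      rcases hcov w hw with h | h | h
      · exact hcases v₃ v₂ v₁ hv₃ hv₂ hv₁ (fun u hu => by have := hcov u hu; tauto) (hdis _ _ h23) a ha x w h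
      · exact ha x w h
      · exact hcases v₁ v₂ v₃ hv₁ hv₂ hv₃ hcov (hdis _ _ h12.symm) a ha x w h
  -- a commutator
  obtain ⟨σ, hσ⟩ : ∃ σ : Equiv.Perm (inside G F), σ * ρN g * σ⁻¹ ≠ ρN g := by
    obtain ⟨b, hb⟩ : ∃ b, ρN g b ≠ b := by
      by_contra h
      push Not at h
      exact hgρ (Equiv.ext h)
    have : Fintype (inside G F) := Fintype.ofFinite _
    obtain ⟨c, -, hc⟩ := Finset.exists_mem_notMem_of_card_lt_card (s := ({b, ρN g b} : Finset (inside G F)))
      (t := Finset.univ) (by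
        rw [Finset.card_univ, ← Nat.card_eq_fintype_card, hFcard]
        have := Finset.card_le_two (a := b) (b := ρN g b)
        omega)
    simp only [Finset.mem_insert, Finset.mem_singleton, not_or] at hc
    refine ⟨Equiv.swap (ρN g b) c, fun h => hc.2 ?_⟩
    have := Equiv.ext_iff.1 h b
    rwa [Equiv.Perm.mul_apply, Equiv.Perm.mul_apply, Equiv.swap_inv,
      Equiv.swap_apply_of_ne_of_ne (Ne.symm hb) (Ne.symm hc.1), Equiv.swap_apply_left] at this
  obtain ⟨h, rfl⟩ := hρNsurj σ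
  set c := g⁻¹ * (h * g * h⁻¹) with hc
  have hcφ : c ∈ φ.ker := mul_mem (inv_mem hgφ) ((φ.normal_ker).conj_mem g hgφ h)
  have hcentral : ∀ x : R₀, cj c x = x := by
    intro x
    have hcj1 : ∀ y, cj 1 y = y := fun y => Subtype.ext (by
      show ((1 : N) : stabilizer G (F : Set Ω)) * _ * _ = _
      simp)
    have h1 : cj (h * g * h⁻¹) x = x ^ a := by
      rw [hcjmul, hcjmul, ha, hcjpow, ← hcjmul, mul_inv_cancel, hcj1]
    rw [hc, hcjmul, h1, ← ha, ← hcjmul, inv_mul_cancel, hcj1]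
  have hcpow : ∀ w : Ω, w ∉ F → c ^ r • w = w := by
    intro w hw
    obtain ⟨s, hs⟩ := hmoved w hw
    obtain ⟨hgen, hpowr⟩ := orbit_cyclic hR₀p w (horb w hw) s hs
    obtain ⟨y, hy⟩ := hfix0 c hcφ w hw
    have hstep : ∀ u ∈ orbit R₀ w, c • u = y • u := by
      rintro _ ⟨z, rfl⟩
      obtain ⟨i, hi⟩ := hgen y
      obtain ⟨j, hj⟩ := hgen z
      calc c • z • w = cj c z • c • w := (hcjsmul c z w).symm
        _ = z • y • w := by rw [hcentral, ← hy]
        _ = s ^ j • s ^ i • w := by rw [hi w (mem_orbit_self w), hj _ (mem_orbit w _)]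
        _ = s ^ i • s ^ j • w := by rw [← mul_smul, ← mul_smul, ← pow_add, ← pow_add, add_comm]
        _ = y • z • w := by rw [← hj w (mem_orbit_self w), ← hi _ (mem_orbit w z)]
    have hn' : ∀ n : ℕ, c ^ n • w = y ^ n • w := by
      intro n
      induction n with
      | zero => simp
      | succ n ih => rw [pow_succ', pow_succ', mul_smul c, mul_smul y, ih, hstep _ (mem_orbit w _)]
    rw [hn', hrpow, one_smul]
  have hcr : (((c ^ r : N) : stabilizer G (F : Set Ω)) : G) = 1 := hsmall _ F (by omega) hcpow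
  have h1 : ρN (c ^ r) = 1 := by
    rw [show (c ^ r : N) = 1 from Subtype.ext (Subtype.ext hcr), map_one]
  apply hσ
  have h2 : ρN c = 1 := by
    rw [map_pow] at h1
    have hd := orderOf_dvd_of_pow_eq_one h1
    rcases (Nat.dvd_prime hr.out).1 hd with h3 | h3
    · exact orderOf_eq_one_iff.1 h3
    · have h4 : r ∣ f.factorial := by
        rw [← hFcard, ← Nat.card_perm, ← h3]
        exact orderOf_dvd_natCard _
      have := (hr.out.dvd_factorial).1 h4
      omega
  rw [hc, map_mul, map_inv, inv_mul_eq_one, map_mul, map_mul, map_inv] at h2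
  exact h2.symm

end Cfsg.Agent.HalfNorm.TwinPrime
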